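import Cfsg.Agent.Lt.A

/-!
Standard L₃(3), case L₄(3): the coded group GL₂(3) ≀ 2 and finite facts.
-/

set_option autoImplicit false
set_option synthInstance.maxSize 4000
set_option synthInstance.maxHeartbeats 200000
set_option maxRecDepth 4000

namespace CF.Lt.Q
open Subgroup CF.Lt.R CF.L33.Br Matrix
open scoped MatrixGroups

abbrev A2 := Matrix (Fin 2) (Fin 2) (ZMod 3)
abbrev A4 := Matrix (Fin 4) (Fin 4) (ZMod 3)

/-- codes for `GL₂(3)` -/
def G2 := Fin 48
instance deq2 : DecidableEq G2 := instDecidableEqFin 48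
instance all2 (p : G2 → Prop) [i : DecidablePred p] : Decidable (∀ a, p a) := @Nat.decidableForallFin 48 p i
instance ex2 (p : G2 → Prop) [i : DecidablePred p] : Decidable (∃ a, p a) := @Nat.decidableExistsFin 48 p i
def cd (n : ℕ) : G2 := Fin.ofNat 48 n
def tm : ℕ := 0x7e428568f7ab10c39496a18b55b1c2352ba30490198a80c84d8a5c457b219d059d826b6f8272026ce86d0c93d59ac04751a2c5417be218c45d8e910a59ca18012a9e90d4d97e5aee7a51c37107ea04845692b0895dd286013b2010b35886614c4999da395ba2a4f51b8e8bed8e93067518af14b417a2e10a59c2433d5b6108839b82704751a999353adf9404987a4aac8662c460d82c18a0139ed14c499201456a9f0c741c7a50895dd91b3d4be3a0e55a8a9bab8a82416408ee087352a6f0c84d8304394ade14a3da7e418b55b95d416b609915dc867b2a2857e43da10c7ab50e2c6aa56d53521c28ee019049a22613203be1b2745c5e682d59076920282739b0c986d54f1c1b266944172c58af45d18ca63716284b9eaa40184a57eb4cd6681c37a541c0487ea591242ae475701328682c35810b9a1652305b62ba939a5688ef50f6e73068e945d14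b8af5d0284ba87163d524386d39b0889e06941c1b1fae53594e47aa4806262418a80190878ee48d203be96133943047ab3da14a91f6d52c6aa0b6641d5a786c5d17252c486635818a82c4c0305b676524562017ea41c0c795e757242ae3be83db5298ae54e6a45974d255471d61969b41100d38f9649a7a68aabb2dbaf79f82188304218414720928b3234d259751561971d6da3404503ce9a7964a29b2daabbee8607de8c418504308b28c20726249351559765869b75c00d38f411a299259a7bafaeab6c8a379f8010831051891c830a2e15154935d669b65871d3ce340450925a299e6aeabafb2d7de8e28451060810ca30b1c92205545d64936da75c61938f41100d9e6a68925b6cbeeaab8218a37820c11461082472cc29f5d65544d275c6da6584503ce340a689e6964beeb6caea8e28607c61440c204c2ca2481de10b358866286013b2014c4999ed7ea0484567a51c371092b0895cf51b8e8bda395ba2a5d08839b8272433d5b6104751a9ac8af14b4178e9306751a2e10a5804987a4a99353adf95c0490198a81c2352ba30c84d8a6f7ab10c3947e428568f96a18b55059d826b5c457b219db18c45d8e92c5417be210a59ca2e86d0c93d58272026ce9ac04750d4d97e5ad8012a9e91a0c741c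7a5201456a9f0895dd92b82c18a0138662c460d9ed14c48e55a8a9b9b3d4be3a1914a3da7e4304394ade18b55b96a8ee0873528a8241640a6f0c84d15dc867b1d416b6099835810b9a101328682c652305b670487ea5911c37a541c242ae47688ef50f6e2ba939a55739b0889e03d524386d6941c1b2614b8af5d03068e945d284ba87247aa48061fae53594d6019049a223521c28ee613203be910c7ab50e2857e43da2c6aa56e682d590761b2745c5d545d18ca634172c58af716284ba80c986d54f20282739b1c1b266a57eb4cd65eaa40184943da14a91f3943047ab6d52c6aa50878ee48d2418a8019203be962786c5d1720b6641d59341c0c795e4562017ea757242ae418a82c4c02c4866358305b676698ae54e6a3be83db512bafaeab6ca299259a78a379f82165869b75c49351559700d38f4091c830a2c1083105191aeabafb2d925a299e67de8e286069b65871d5154935d63ce34044a30b1c92051060810d0aabb2dbaf9649a7a6879f8218a371d61969b5974d255441100d38720928b30304218414fb2daabbee9a7964a298607de8e261971d6da4d25975153404503cb28c20724418504308eb6cbeeaab9e6a689258218a379f6da75c6195545d649338f4110082472cc2820c114610d7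1095e0c7591a9f0485dd92b0894c0b2018a60d9a110b4999ed15568ea6e8946cfa2f8cc640a2204948dba30874d8a6f0c850eade10c68f91f14a55b96a1967509ad8177119ec84b6ce9e008854fb610c951a9ac0475d0be214b751a6318c59ca2e11260092a79364d96b7ca60d9a110b4c0b2018a4999ed14c591a9f04871095e0c75dd92b0946cfa2f8d568ea6e88968f91f14a50eade10c55b96a18b48dba3087640a220494d8a6f0d77119ec8567509ad808751a6318c5d0be214b59ca2e10a54fb610c96ce9e008851a9ac05364d96b7d260092a787a22640241ba348d1c2be9613203ade50e30491f68f285aa56d52ed9a075642c9e171744695e7101c3a9f591201ae4757242b204c02869a160d2c4b6765232ea626953afa236d43c59e06ce202b6154f243b266941c1be25d02c5a63751306ba87162aa91e61202b95f65334491f68f285ade50e304aa56d52c6ba348d1c2a22640241be961322c9e171746d9a07564039a160d2c4b204c0286b67652305a9f59120195e7101c3ae475726fa236d43eea62695382a63751306be25d02c5ba8716284b6154f2439e06ce202b266941eb95f65336a91e612001beeb6caeaa689e69648e28607de75c6da6585d65544d24503ce34c2ca2481c61440c2040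
def ti : ℕ := 0x54b6c696a5c9742ae48628e07de9ccb45652a48bc34d844e3d035cb8aa1612c687526040
def tc : ℕ := 0x6a6a3917c8e6975239da094be0a670767995641ea2625a18d747e4ae8095bce66622aa1f2d815849c61c
instance mul2 : Mul G2 := ⟨fun a b => cd (tm >>> (6 * (48 * a.1 + b.1)) % 64)⟩
instance one2 : One G2 := ⟨cd 0⟩
instance inv2 : Inv G2 := ⟨fun a => cd (ti >>> (6 * a.1) % 64)⟩
/-- determinant `-1` -/
def sg (a : G2) : Bool := (0x66555a9abc0e : ℕ).testBit a.1
def en (k : ℕ) (a : G2) : ZMod 3 := (tc >>> (7 * a.1) % 128 / k : ℕ)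
def m2 (a : G2) : A2 := !![en 1 a, en 3 a; en 9 a, en 27 a]

theorem m2_mul (a b : G2) : m2 (a * b) = m2 a * m2 b := by
  have : ∀ a b : G2, en 1 (a * b) = en 1 a * en 1 b + en 3 a * en 9 b ∧ en 3 (a * b) = en 1 a * en 3 b + en 3 a * en 27 b ∧
    en 9 (a * b) = en 9 a * en 1 b + en 27 a * en 9 b ∧ en 27 (a * b) = en 9 a * en 3 b + en 27 a * en 27 b := by decide +kernel
  obtain ⟨p, q, r, s⟩ := this a b
  rw [m2, m2, m2, mul_fin_two, p, q, r, s]
theorem en_inj : ∀ a b : G2, en 1 a = en 1 b → en 3 a = en 3 b → en 9 a = en 9 b → en 27 a = en 27 b → a = b := by decide +kernel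
theorem m2_inj (a b : G2) (h : m2 a = m2 b) : a = b :=
  en_inj a b (congrFun (congrFun h 0) 0) (congrFun (congrFun h 0) 1) (congrFun (congrFun h 1) 0) (congrFun (congrFun h 1) 1)
instance grp2 : Group G2 := .ofLeftAxioms (fun a b c => m2_inj _ _ (by simp only [m2_mul, Matrix.mul_assoc]))
  (by decide +kernel) (by decide +kernel)
theorem m2_one : m2 1 = 1 := by decide +kernel
theorem m2_sur (a b c d : ZMod 3) (h : a * d - b * c ≠ 0) : ∃ x, m2 x = !![a, b; c, d] := by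
  have : ∀ a b c d : ZMod 3, a * d - b * c ≠ 0 → ∃ x, en 1 x = a ∧ en 3 x = b ∧ en 9 x = c ∧ en 27 x = d := by decide +kernel
  obtain ⟨x, rfl, rfl, rfl, rfl⟩ := this a b c d h
  exact ⟨x, rfl⟩
theorem m2_dt : ∀ a : G2, m2 a 0 0 * m2 a 1 1 - m2 a 0 1 * m2 a 1 0 = cond (sg a) 2 1 := by decide +kernel

/-- codes for `GL₂(3) ≀ 2` -/
@[ext] structure Bg where
  (A B : G2)
  s : Bool
instance deqB : DecidableEq Bg := fun a b => decidable_of_iff (a.A = b.A ∧ a.B = b.B ∧ a.s = b.s) Bg.ext_iff.symm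
instance (priority := low) allB (p : Bg → Prop) [DecidablePred p] : Decidable (∀ a, p a) :=
  decidable_of_iff (∀ s A B, p ⟨A, B, s⟩) ⟨fun h a => h a.s a.A a.B, fun h _ _ _ => h _⟩
def muB : Bg → Bg → Bg
  | ⟨A, B, s⟩, ⟨C, D, r⟩ => ⟨A * cond s D C, B * cond s C D, xor s r⟩
def ivB : Bg → Bg
  | ⟨A, B, s⟩ => ⟨(cond s B A)⁻¹, (cond s A B)⁻¹, s⟩
instance mulB : Mul Bg := ⟨muB⟩
instance oneB : One Bg := ⟨⟨1, 1, false⟩⟩
instance invB : Inv Bg := ⟨ivB⟩
theorem mul_def (A B C D : G2) (s r : Bool) : (⟨A, B, s⟩ * ⟨C, D, r⟩ : Bg) = ⟨A * cond s D C, B * cond s C D, xor s r⟩ := rfl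
theorem inv_def (A B : G2) (s : Bool) : (⟨A, B, s⟩ : Bg)⁻¹ = ⟨(cond s B A)⁻¹, (cond s A B)⁻¹, s⟩ := rfl
theorem one_def : (1 : Bg) = ⟨1, 1, false⟩ := rfl
instance grpB : Group Bg := .ofLeftAxioms
  (fun ⟨_, _, s⟩ ⟨_, _, r⟩ ⟨_, _, u⟩ => by cases s <;> cases r <;> cases u <;> simp [mul_def, mul_assoc])
  (fun ⟨_, _, s⟩ => by cases s <;> simp [mul_def, one_def]) (fun ⟨_, _, s⟩ => by cases s <;> simp [mul_def, inv_def, one_def])

def bd (A B : A2) : A4 := !![A 0 0, A 0 1, 0, 0; A 1 0, A 1 1, 0, 0; 0, 0, B 0 0, B 0 1; 0, 0, B 1 0, B 1 1]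
def ad (A B : A2) : A4 := !![0, 0, A 0 0, A 0 1; 0, 0, A 1 0, A 1 1; B 0 0, B 0 1, 0, 0; B 1 0, B 1 1, 0, 0]
theorem bd_bd (A B C D : A2) : bd (A * C) (B * D) = bd A B * bd C D := by
  ext i j; fin_cases i <;> fin_cases j <;> simp [bd, Matrix.mul_apply, Fin.sum_univ_succ]
theorem bd_ad (A B C D : A2) : ad (A * C) (B * D) = bd A B * ad C D := by
  ext i j; fin_cases i <;> fin_cases j <;> simp [bd, ad, Matrix.mul_apply, Fin.sum_univ_succ]
theorem ad_bd (A B C D : A2) : ad (A * D) (B * C) = ad A B * bd C D := by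
  ext i j; fin_cases i <;> fin_cases j <;> simp [bd, ad, Matrix.mul_apply, Fin.sum_univ_succ]
theorem ad_ad (A B C D : A2) : bd (A * D) (B * C) = ad A B * ad C D := by
  ext i j; fin_cases i <;> fin_cases j <;> simp [bd, ad, Matrix.mul_apply, Fin.sum_univ_succ]
def mt (b : Bg) : A4 := cond b.s (ad (m2 b.A) (m2 b.B)) (bd (m2 b.A) (m2 b.B))
def mat : Bg →* A4 where
  toFun := mt
  map_one' := by decide +kernel
  map_mul' := fun ⟨A, B, s⟩ ⟨C, D, r⟩ => by
    cases s <;> cases r <;> simp only [mul_def, mt, m2_mul, cond, Bool.xor_false, Bool.xor_true, Bool.not_true, Bool.not_false]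
    exacts [bd_bd _ _ _ _, bd_ad _ _ _ _, ad_bd _ _ _ _, ad_ad _ _ _ _]
theorem mat_ap (b : Bg) : mat b = mt b := rfl

def dt4 (m : A4) : ZMod 3 :=
  (m 0 0 * m 1 1 - m 0 1 * m 1 0) * (m 2 2 * m 3 3 - m 2 3 * m 3 2) - (m 0 0 * m 1 2 - m 0 2 * m 1 0) * (m 2 1 * m 3 3 - m 2 3 * m 3 1) +
  (m 0 0 * m 1 3 - m 0 3 * m 1 0) * (m 2 1 * m 3 2 - m 2 2 * m 3 1) + (m 0 1 * m 1 2 - m 0 2 * m 1 1) * (m 2 0 * m 3 3 - m 2 3 * m 3 0) -
  (m 0 1 * m 1 3 - m 0 3 * m 1 1) * (m 2 0 * m 3 2 - m 2 2 * m 3 0) + (m 0 2 * m 1 3 - m 0 3 * m 1 2) * (m 2 0 * m 3 1 - m 2 1 * m 3 0)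
theorem det4 (m : A4) : m.det = dt4 m := by
  simp [dt4, det_succ_row_zero, Fin.sum_univ_succ, Fin.succAbove]; ring
/-- determinant one -/
def ev (b : Bg) : Prop := sg b.A = sg b.B
instance decEv (b : Bg) : Decidable (ev b) := instDecidableEqBool _ _
theorem det_mat (b : Bg) : (mat b).det = 1 ↔ ev b := by
  have a : (mat b).det = cond (sg b.A) 2 1 * cond (sg b.B) 2 1 := by
    obtain ⟨A, B, s⟩ := b
    rw [← m2_dt, ← m2_dt, det4]
    cases s <;> simp [mat_ap, mt, dt4, bd, ad]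
  rw [a, ev]; cases sg b.A <;> cases sg b.B <;> decide

def bt : Bg := ⟨1, cd 13, false⟩
def bz : Bg := ⟨cd 31, 1, false⟩
def bm : Bg := ⟨cd 31, cd 31, false⟩
def bI : Bg := ⟨cd 4, 1, false⟩
def bJ : Bg := ⟨cd 21, 1, false⟩
def bK : Bg := ⟨1, cd 4, false⟩
def bL : Bg := ⟨1, cd 21, false⟩
def sw : Bg := ⟨1, 1, true⟩
def b1 : Bg := ⟨cd 30, cd 30, false⟩
/-- equal up to sign -/
def pm (a b : Bg) : Prop := a = b ∨ a = bm * b
instance decPm (a b : Bg) : Decidable (pm a b) := instDecidableOr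
def pz (a : Bg) : Prop := pm a 1 ∨ pm a bz
instance decPz (a : Bg) : Decidable (pz a) := instDecidableOr
def l6 : List Bg := [bI, bI⁻¹, bJ, bJ⁻¹, bI * bJ, bJ * bI]
def l12 : List Bg := l6 ++ [bK, bK⁻¹, bL, bL⁻¹, bK * bL, bL * bK]


end CF.Lt.Q
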