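import Cfsg.Agent.L33.B1
import Cfsg.Agent.S0813

/-!
Automorphisms of the group L₃(3).
-/

set_option autoImplicit false
set_option synthInstance.maxSize 2000

namespace CF.Lt.R
open Subgroup CF.L33.Br
open scoped MatrixGroups

abbrev M3 := SL(3, ZMod 3)

/-- inverse transpose -/
def tauR (R : Type) [CommRing R] : MulAut SL(3, R) where
  toFun g := g⁻¹.transpose
  invFun g := g⁻¹.transpose
  left_inv g := Subtype.ext (by simp [Matrix.adjugate_transpose, Matrix.adjugate_adjugate'])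
  right_inv g := Subtype.ext (by simp [Matrix.adjugate_transpose, Matrix.adjugate_adjugate'])
  map_mul' a b := Subtype.ext (by simp)

theorem tauR_ap {R : Type} [CommRing R] (g : SL(3, R)) : tauR R g = g⁻¹.transpose := rfl
theorem tauR2 {R : Type} [CommRing R] : tauR R * tauR R = 1 := MulEquiv.ext (tauR R).left_inv

@[irreducible] def tau : MulAut M3 := tauR (ZMod 3)
theorem tau_ap (g : M3) : tau g = g⁻¹.transpose := by unfold tau; exact tauR_ap g
theorem tau2 : tau * tau = 1 := by unfold tau; exact tauR2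

theorem conj_inj {H : Type*} [Group H] (h : center H = ⊥) : Function.Injective (MulAut.conj : H →* MulAut H) :=
  (MonoidHom.ker_eq_bot_iff _).1 (eq_bot_iff.2 fun x m => h ▸ mem_center_iff.2 fun g =>
    (mul_inv_eq_iff_eq_mul.1 (DFunLike.congr_fun (MonoidHom.mem_ker.1 m) g)).symm)

def tb : ℕ := 0x57efd8dc2e98f35b2ab73939cc1f74bdc4acf2cb7ccd8c45c512e8166441481f0668f04194ecc5d0765a4263c65543962d7d9adcfb3f488f88fee5297742700d8cde1fa676a112a3100c3c2c4f0e1a8ad07850b2276a66fbde43322477e9bbc5f9f185b6e8fb91f3ad0f9e0803480f8feac7589ee62d6a407e2ddee77e43f8f25cdca1259f0ef28d3bb4d6a4d39e8f4d286008e84bbb91eb9d0abef650e76e33ba822f6d71ac9d30087aaf0712c8f491aaa51710da4d1bf222e87a4336341a8e395257c2824f69b3b9e05ad2cf5f10e4dee49d377c4bb0acc281059404498c7676a1e8a9499111d65b8d727e824a87d60e6c8854b8f6283177da24f558f084470394de63223463fa12ada0d364a9a7558536fb7163aa7299390a2d5735ccd7a2de0e68750d99b0e7824b795ae22fe61f7637a0a8787e1801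5a071639b73de4274d9618e1614108faefa8a54ad48164ba5be1a03dc1133f83bea66b48473afa2d3f3b5d4568cf95f26128b4b719cae04e1e27e62da8f532e0a00416ae6a72a27348723c4bbc4533c7c918e12f4c9f713e1df6d19edddbe0b583b4f8d3c53a374662dcae3f2a01ecc58b7fd1f2901f98e36abb29d63003c424d6abb4d9aacae99724f69298409bc8bfee13e94aaf296b6923e7be2c46e599dd9b34ad18c8cf523355fdb43a25a4c287ae49f54a9483ee5a5aab6d493cd3fb2f10a2085d3b492e0f25e558128acbbaa5721f1b9689756825909c9c66e7da8d085edce3566b253053b465be8f8bb5c08b16679900d09b4b0c8e1edf3e05fab45a663cbf9d93776da10d7ea1d3e91e340a00bb18d8ff9e21b12bc4c4bff04f05081ecdac3f96f63738ee05da16b91aa24d435c49891f284a17f6561ca686af35a702eea4a99579feb8af3a239c8665c5afa3ade6eb160daf4abfc5d028fdccf43fec0372442e8e21c2fced47ae304af61f4136ef20023f409a36bfdb3271e8886ee98e12e301548d7ff2a8bfea043e7818e8df095584c419d581fe9e575bb1d1361b7d57e110246c859827e8e1c7f2868a76b1448ac2befcaf0f2560b647f38698162c3cf44709eb9d48b39058e8034b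691e4bd171a1f391ddcd9e66eccd38d6947123f16ab9759873a5703cc5f55caf530f352b0542e12198d4a9cfee2aeb0a5c1841185ebf6051d908b32a669c643240638d27a2767407687876f07d12c63e12896b86e2415015409085a68d1f23a3071685aadec6e216ea7e7fe53405cdf477121f82cdbf88f85a7d97a5fb827d7804ac5653eda5693daa264950f15ed039fa82cddc37544f80d525101b272a9a16f6832916585dce1e85ade02f1f57582d2ad06f4bd106ee0c24ca81312df694d69e2a81924e1a30b2c855525c7dada3d674a69f6a1369019e77d7bd281ed19b7e2ef5f4003112797e232a49f7dd181217ad051497dae0371e23bb5ef437247314ab726302632152a4ecce5b5e8d4eb7bae43069b145ba03bb60ee56fce60009185845a47076fbf74396e7f5f658fc183c457b315282c2f62fa876bd6f2802ebf1fb8ac72126d93db198e19da342157aaf9c63bc33518da2ee681fde1052de4257f9d8088efd03e44b6053cd809e1d3b7931f3a9d445e98545430d7be1b4d112b8c2789dcab752f5d966958d25aee77d3d324109408654cf067ed75d499cb978c67fa85b7b9fe389fa16ccffa72e70b0b93e0213d2fe98c03b5949668e6120b4a993ea69d2fcd8aaf31d55aa95f55b82c54322528cbf1811316a7fc84464a8ccd868f329764b54a7a0452295021a818b3fe71c330b0ad0c2b278dba6032d34aa12cbd257d1b362c32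

def dc (n : ℕ) : Matrix (Fin 3) (Fin 3) (ZMod 3) :=
  !![(n : ZMod 3), (n / 3 : ℕ), (n / 9 : ℕ); (n / 27 : ℕ), (n / 81 : ℕ), (n / 243 : ℕ); (n / 729 : ℕ), (n / 2187 : ℕ), (n / 6561 : ℕ)]

def lk (a b c d e f : ZMod 3) : Matrix (Fin 3) (Fin 3) (ZMod 3) :=
  dc (tb / 19683 ^ (a.val + 3 * b.val + 9 * c.val + 27 * d.val + 81 * e.val + 243 * f.val) % 19683)

theorem sym0 : ∀ a b c d e f : ZMod 3, a * d * f - a * e * e - b * b * f + b * e * c + c * b * e - c * d * c = 1 →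
    (fun y : Matrix (Fin 3) (Fin 3) (ZMod 3) => y 0 0 * y 1 1 * y 2 2 - y 0 0 * y 1 2 * y 2 1 - y 0 1 * y 1 0 * y 2 2 + y 0 1 * y 1 2 * y 2 0 +
      y 0 2 * y 1 0 * y 2 1 - y 0 2 * y 1 1 * y 2 0 = 1 ∧ y * y.transpose = !![a, b, c; b, d, e; c, e, f]) (lk a b c d e f) := by
  decide +kernel

theorem sym {m : M3} (h : m.transpose = m) : ∃ y : M3, y * y.transpose = m := by
  have k : ∀ i j, m.1 j i = m.1 i j := fun i j => congrArg (fun x : M3 => x.1 i j) h
  have p : m.1 = !![m.1 0 0, m.1 0 1, m.1 0 2; m.1 0 1, m.1 1 1, m.1 1 2; m.1 0 2, m.1 1 2, m.1 2 2] := by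
    ext i j; fin_cases i <;> fin_cases j <;> simp [k 0 1, k 0 2, k 1 2]
  have d := m.2
  rw [Matrix.det_fin_three, k 0 1, k 0 2, k 1 2] at d
  obtain ⟨a, b⟩ := sym0 _ _ _ _ _ _ d
  exact ⟨⟨_, (Matrix.det_fin_three _).trans a⟩, Subtype.ext (b.trans p.symm)⟩

/-- the group of automorphisms and the inner automorphisms -/
abbrev A3 := MulAut M3
abbrev cn : M3 →* A3 := MulAut.conj
abbrev Inn : Subgroup A3 := cn.range

theorem cen_bot : center M3 = ⊥ := eq_bot_of_card_eq _ (by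
  have : Fact (Nat.Prime 3) := ⟨Nat.prime_three⟩
  rw [Classical.card_center_SL]; simp)

theorem cn_inj : Function.Injective cn := conj_inj cen_bot

/-- the isomorphism with the projective group -/
noncomputable def toP : M3 ≃* Matrix.ProjectiveSpecialLinearGroup (Fin 3) (ZMod 3) :=
  QuotientGroup.quotientBot.symm.trans (QuotientGroup.quotientMulEquivOfEq cen_bot.symm)

theorem inn_idx : Inn.index = 2 := by
  have : Fact (Nat.Prime 3) := ⟨Nat.prime_three⟩
  have a := Cfsg.Agent.S0813.result (F := ZMod 3) 3 1 le_rfl (by simp) 3 (by decide) (by decide)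
  rw [← Nat.card_congr (MulAut.congr toP).toEquiv, Classical.card_PGL_eq_card_SL, ← Inn.index_mul_card,
    ← Nat.card_congr (MonoidHom.ofInjective cn_inj).toEquiv] at a
  simpa using Nat.eq_of_mul_eq_mul_right Nat.card_pos a

theorem out_mul {a b : A3} (p : a ∉ Inn) (q : b ∉ Inn) : a * b ∈ Inn := (mul_mem_iff_of_index_two inn_idx).2 (iff_of_false p q)
theorem sq_inn (a : A3) : a * a ∈ Inn := (mul_mem_iff_of_index_two inn_idx).2 .rfl
theorem act_cn (α : A3) (m : M3) : α * cn m * α⁻¹ = cn (α m) := by ext1; simp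
theorem taui : tau⁻¹ = tau := inv_eq_of_mul_eq_one_left tau2
theorem tau_inv (m : M3) : (tau m)⁻¹ = m.transpose := by rw [← map_inv, tau_ap, inv_inv]

theorem tau_out : tau ∉ Inn := fun ⟨m, h⟩ => by
  have a : (tau s0).1.trace = (m * s0 * m⁻¹).1.trace := by rw [← h, MulAut.conj_apply]
  rw [Matrix.SpecialLinearGroup.coe_mul, Matrix.trace_mul_comm, ← Matrix.SpecialLinearGroup.coe_mul, inv_mul_cancel_left,
    tau_ap, show s0⁻¹ = s0 ^ 7 from inv_eq_of_mul_eq_one_right (by decide +kernel)] at a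
  revert a; decide +kernel

theorem out_form {u : A3} (p : u ∉ Inn) : ∃ m, u = cn m * tau :=
  let ⟨m, h⟩ := out_mul p tau_out
  ⟨m, by rw [h, mul_assoc, tau2, mul_one]⟩

theorem form_mul (m n : M3) : cn m * tau * (cn n * tau) = cn (m * tau n) := by
  rw [map_mul, ← act_cn tau n, taui]; simp only [mul_assoc]

/-- one class of outer involutions -/
theorem out_std {u : A3} (p : u ∉ Inn) (q : u * u = 1) : ∃ y, u = cn y * tau * (cn y)⁻¹ := by
  obtain ⟨m, rfl⟩ := out_form p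
  rw [form_mul, ← cn.map_one, cn_inj.eq_iff] at q
  obtain ⟨y, rfl⟩ := sym ((tau_inv m).symm.trans (inv_eq_of_mul_eq_one_left q))
  exact ⟨y, by rw [← tau_inv, map_mul, map_inv, ← act_cn tau y, taui]; simp [mul_assoc, taui, tau2]⟩

theorem cls0 {H : Type*} [Group H] [Finite H] (f : M3 ≃* (⊤ : Subgroup H)) {v w : H} (p : v * v = 1) (n : v ≠ 1) (q : w * w = 1) (k : w ≠ 1) :
    IsConj w v := by
  have : Fact (Nat.Prime 2) := ⟨Nat.prime_two⟩
  obtain ⟨D, hD, l⟩ := CF.Loc.exists_isSyl_ge (CF.Loc.isPGroup_zpowers (p := 2) (k := 1) ((pow_two v).trans p)) (le_top (a := zpowers v))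
  obtain ⟨g, -, l'⟩ := hD.exists_cj_le (CF.Loc.isPGroup_zpowers (p := 2) (k := 1) ((pow_two w).trans q)) le_top
  obtain ⟨s, e, r, q', h, rfl⟩ := ex_ym f hD
  have c : ∀ x ∈ closure {s, e}, x * x = 1 → x ≠ 1 → IsConj (s ^ 4) x := fun x m a b => by
    rcases (h.inv m a).resolve_left b with rfl | ⟨i, rfl⟩
    exacts [.refl _, (isConj_iff.2 ⟨r, h.rz⟩).trans (isConj_iff.2 ⟨_, rfl⟩)]
  exact (isConj_iff.2 ⟨g, rfl⟩).trans ((c _ (l' (CF.Loc.conj_mem_cj g (mem_zpowers w))) (by simp [conj_mul, q]) (by simpa using k)).symm.trans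
    (c v (l (mem_zpowers v)) p n))

theorem z2 : z0 * z0 = 1 := by decide +kernel
theorem z1 : z0 ≠ 1 := by decide +kernel

/-- one class of involutions -/
theorem cls {v : M3} (p : v * v = 1) (n : v ≠ 1) : ∃ y, y * z0 * y⁻¹ = v := isConj_iff.1 (cls0 topEquiv.symm p n z2 z1)

/-! the centralizer of `z0` -/
structure B2 where
  (a b c d : ZMod 3)
  deriving DecidableEq

namespace B2
def mu (x y : B2) : B2 := ⟨x.a * y.a + x.b * y.c, x.a * y.b + x.b * y.d, x.c * y.a + x.d * y.c, x.c * y.b + x.d * y.d⟩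
def dt (x : B2) : ZMod 3 := x.a * x.d - x.b * x.c
def ta (x : B2) : B2 := ⟨x.d * x.dt, -x.c * x.dt, -x.b * x.dt, x.a * x.dt⟩
def io (x : B2) : Matrix (Fin 3) (Fin 3) (ZMod 3) := !![x.a, x.b, 0; x.c, x.d, 0; 0, 0, x.dt]
def on : B2 := ⟨1, 0, 0, 1⟩
def mo : B2 := ⟨2, 0, 0, 2⟩
def jj : B2 := ⟨0, 1, 2, 0⟩
def jm : B2 := ⟨0, 2, 1, 0⟩

theorem io_inj {x y : B2} (h : x.io = y.io) : x = y := by
  cases x; cases y
  exact mk.injEq .. ▸ ⟨congrFun (congrFun h 0) 0, congrFun (congrFun h 0) 1, congrFun (congrFun h 1) 0, congrFun (congrFun h 1) 1⟩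

theorem io_mu (x y : B2) : x.io * y.io = (x.mu y).io := by
  ext i j; fin_cases i <;> fin_cases j <;> simp [io, mu, dt, Matrix.mul_apply, Fin.sum_univ_three]
  ring

theorem c1 : ∀ a b c d : ZMod 3, (fun x : B2 => (x.mu x).mu x = on → ∀ a b c d : ZMod 3, (fun n : B2 => n.mu x = x.mu n →
    (n.mu n = on ∨ n.mu n = mo) → x = on ∨ n = on ∨ n = mo) ⟨a, b, c, d⟩) ⟨a, b, c, d⟩ := by decide +kernel
theorem c2 : ∀ a b c d : ZMod 3, (fun x : B2 => (x.mu x).mu x = on → ∀ a b c d : ZMod 3, (fun n : B2 => n.mu x.ta = x.mu n →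
    (n.mu n.ta = on → x = on) ∧ (n.mu n.ta = mo → x = on ∨ n = jj ∨ n = jm)) ⟨a, b, c, d⟩) ⟨a, b, c, d⟩ := by decide +kernel
theorem c3 : ∀ a b c d : ZMod 3, (fun x : B2 => (x.mu x).mu x = on → ∀ a b c d : ZMod 3, (fun g : B2 => g.dt * g.dt = 1 →
    (jj.mu g.ta = g.mu jj ∨ jm.mu g.ta = g.mu jm) → (x.mu g).mu x = g → x = on) ⟨a, b, c, d⟩) ⟨a, b, c, d⟩ := by decide +kernel
end B2

/-- block form -/
def Bl (x : M3) (β : B2) : Prop := x.1 = β.io

theorem ex_bl {y : M3} (h : y * z0 = z0 * y) : ∃ β, Bl y β := by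
  have k : ∀ i j, (i = 2) ≠ (j = 2) → y.1 i j = 0 := fun i j n => by
    have a : (y.1 * z0.1) i j = (z0.1 * y.1) i j := congrArg (fun x : M3 => x.1 i j) h
    fin_cases i <;> fin_cases j <;> simp [z0, Matrix.mul_apply, Fin.sum_univ_three] at a n ⊢ <;> revert a <;>
      generalize y _ _ = c <;> revert c <;> decide
  have d := y.2
  rw [Matrix.det_fin_three, k 0 2 (by simp), k 1 2 (by simp)] at d
  have e : y.1 2 2 = y.1 0 0 * y.1 1 1 - y.1 0 1 * y.1 1 0 := by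
    revert d; generalize y.1 0 0 = a, y.1 0 1 = b, y.1 1 0 = c, y.1 1 1 = d, y.1 2 2 = e, y.1 2 0 = f, y.1 2 1 = g
    revert a b c d e f g; decide +kernel
  refine ⟨⟨y.1 0 0, y.1 0 1, y.1 1 0, y.1 1 1⟩, ?_⟩
  ext i j; fin_cases i <;> fin_cases j <;> simp [B2.io, B2.dt, e, k]

namespace Bl
variable {x y : M3} {α β : B2}
theorem mul (a : Bl x α) (b : Bl y β) : Bl (x * y) (α.mu β) := by
  rw [Bl, Matrix.SpecialLinearGroup.coe_mul, a, b, B2.io_mu]
theorem eq (a : Bl x α) (b : Bl y β) : x = y ↔ α = β :=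
  ⟨fun h => B2.io_inj (a.symm.trans (h ▸ b)), fun h => Subtype.ext (a.trans (h ▸ b.symm))⟩
theorem dt (a : Bl x α) : α.dt * α.dt = 1 := by
  have d := x.2
  rw [a, Matrix.det_fin_three] at d
  simpa [B2.io, B2.dt, sub_mul] using d
theorem ta (a : Bl x α) : Bl (tau x) α.ta := by
  have d := a.dt
  rw [Bl, tau_ap, Matrix.SpecialLinearGroup.coe_transpose, Matrix.SpecialLinearGroup.coe_inv, a, Matrix.adjugate_fin_three]
  obtain ⟨p, q, r, s⟩ := α
  clear a; revert p q r s; decide +kernel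
theorem on : Bl 1 B2.on := by rw [Bl]; decide +kernel
theorem mo : Bl z0 B2.mo := by rw [Bl]; decide +kernel
end Bl

theorem tz : tau z0 = z0 := (Bl.mo.ta.eq Bl.mo).2 (by decide +kernel)

theorem form_cm (n m : M3) : cn n * tau * cn m = cn m * (cn n * tau) ↔ n * tau m = m * n := by
  have : cn n * tau * cn m = cn (n * tau m) * tau := by rw [← form_mul, mul_assoc _ _ tau, mul_assoc (cn m), tau2, mul_one]
  rw [this, ← mul_assoc, ← map_mul, mul_left_inj, cn_inj.eq_iff]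

theorem three {x w : A3} (x3 : x * x * x = 1) (a : x * w = w * x) (e : w = cn z0) : ∃ ξ β, x = cn ξ ∧ Bl ξ β ∧ (β.mu β).mu β = B2.on := by
  obtain ⟨ξ, rfl⟩ : x ∈ Inn := by
    have := sq_inn (x * x)
    rwa [← mul_assoc, x3, one_mul] at this
  rw [e, ← map_mul, ← map_mul, cn_inj.eq_iff] at a
  obtain ⟨β, b⟩ := ex_bl a
  rw [← map_mul, ← map_mul, ← cn.map_one, cn_inj.eq_iff] at x3
  exact ⟨ξ, β, rfl, b, (((b.mul b).mul b).eq Bl.on).1 x3⟩

theorem la0 {w v x e : A3} (hw : w = cn z0) (v1 : v ≠ 1) (vw : v ≠ w) (v2 : v * v = 1 ∨ v * v = w) (a : v * w = w * v) (b : x * w = w * x)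
    (c : v * x = x * v) (x3 : x * x * x = 1) (k : v ∉ Inn ∧ v * v = 1 ∨ e * w = w * e ∧ v * e = e * v ∧ x * e * x = e) : x = 1 := by
  obtain ⟨ξ, β, rfl, hb, b3⟩ := three x3 b hw
  suffices β = B2.on by rw [(hb.eq Bl.on).2 this, map_one]
  subst hw
  by_cases i : v ∈ Inn
  · obtain ⟨n, rfl⟩ := i
    simp only [← map_mul, ← cn.map_one, cn_inj.eq_iff, ne_eq] at v1 vw v2 a c
    obtain ⟨ν, hn⟩ := ex_bl a
    rw [hn.eq Bl.on] at v1
    rw [hn.eq Bl.mo] at vw
    rw [(hn.mul hn).eq Bl.on, (hn.mul hn).eq Bl.mo] at v2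
    rw [(hn.mul hb).eq (hb.mul hn)] at c
    exact ((B2.c1 _ _ _ _ b3 _ _ _ _ c v2).resolve_right fun h => h.elim v1 vw)
  obtain ⟨n, rfl⟩ := out_form i
  have a' := (form_cm ..).1 a
  rw [tz] at a'
  obtain ⟨ν, hn⟩ := ex_bl a'
  have c' := (form_cm ..).1 c
  rw [(hn.mul hb.ta).eq (hb.mul hn)] at c'
  have d := B2.c2 _ _ _ _ b3 _ _ _ _ c'
  have q : ∀ {y η}, Bl y η → cn n * tau * (cn n * tau) = cn y → ν.mu ν.ta = η := fun h p => by
    rwa [form_mul, cn_inj.eq_iff, (hn.mul hn.ta).eq h] at p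
  rcases v2 with v2 | v2
  · exact d.1 (q Bl.on (v2.trans cn.map_one.symm))
  rcases k with k | ⟨k1, k2, k3⟩
  · exact d.1 (q Bl.on (k.2.trans cn.map_one.symm))
  refine (d.2 (q Bl.mo v2)).elim id fun j => ?_
  wlog ie : e ∈ Inn generalizing e
  · refine this (e := e * (cn n * tau)) (by rw [mul_assoc, a, ← mul_assoc, k1, mul_assoc]) (by rw [← mul_assoc _ e, k2]) ?_ (out_mul ie i)
    rw [← mul_assoc, mul_assoc, c, ← mul_assoc, k3]
  obtain ⟨g, rfl⟩ := ie
  simp only [← map_mul, cn_inj.eq_iff] at k1 k3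
  obtain ⟨γ, hg⟩ := ex_bl k1
  have k2' := (form_cm ..).1 k2
  rw [(hn.mul hg.ta).eq (hg.mul hn)] at k2'
  rw [((hb.mul hg).mul hb).eq hg] at k3
  exact B2.c3 _ _ _ _ b3 _ _ _ _ hg.dt (j.imp (fun j => by rw [← show ν = B2.jj from j]; exact k2') fun j => by rw [← show ν = B2.jm from j]; exact k2') k3

/-- an element of order 3 centralized by an inner involution `w` and by a 2-element `v ∉ ⟨w⟩`: `v` is not an outer involution, and
no element inverting `x` commutes with `v` and `w` -/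
theorem la {w v x e : A3} (wi : w ∈ Inn) (w1 : w ≠ 1) (w2 : w * w = 1) (v1 : v ≠ 1) (vw : v ≠ w) (v2 : v * v = 1 ∨ v * v = w)
    (a : v * w = w * v) (b : x * w = w * x) (c : v * x = x * v) (x3 : x * x * x = 1)
    (k : v ∉ Inn ∧ v * v = 1 ∨ e * w = w * e ∧ v * e = e * v ∧ x * e * x = e) : x = 1 := by
  obtain ⟨m, rfl⟩ := wi
  simp only [← map_mul, ← cn.map_one, cn_inj.eq_iff, ne_eq] at w1 w2
  obtain ⟨y, rfl⟩ := cls w2 w1
  let f := (MulAut.conj (cn y)).symm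
  have : Inn.Normal := normal_of_index_eq_two inn_idx
  have i : f v ∈ Inn → v ∈ Inn := fun p => by simpa [f, mul_assoc] using this.conj_mem _ p (cn y)
  have j : f (cn (y * z0 * y⁻¹)) = cn z0 := by simp [f, mul_assoc]
  generalize cn (y * z0 * y⁻¹) = w, f = f at *
  have o : ∀ {a b c d : A3}, a * b = c * d → f a * f b = f c * f d := fun h => by rw [← map_mul, h, map_mul]
  have o1 : ∀ {a b : A3}, a * b = 1 → f a * f b = 1 := fun h => by rw [← map_mul, h, map_one]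
  exact f.map_eq_one_iff.1 (la0 j (e := f e) (mt f.map_eq_one_iff.1 v1) (f.injective.ne vw) (v2.imp o1 fun h => by rw [← map_mul, h])
    (o a) (o b) (o c) (by rw [← map_mul]; exact o1 x3) (k.imp (.imp (mt i) o1) (.imp o (.imp o fun h => by rw [← map_mul, ← map_mul, h]))))

def c0 : M3 := ⟨!![0, 1, 0; 2, 0, 0; 0, 0, 1], by decide +kernel⟩
def y0 : M3 := ⟨!![1, 1, 0; 1, 2, 0; 0, 0, 1], by decide +kernel⟩

/-- an outer involution `u` centralizes an element `c` of order 4 with `c² u` conjugate to `u` -/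
theorem lc {u : A3} (p : u ∉ Inn) (q : u * u = 1) : ∃ c y : M3, u c = c ∧ c * c ≠ 1 ∧ c * c * (c * c) = 1 ∧ y * (u y)⁻¹ = c * c := by
  obtain ⟨g, rfl⟩ := out_std p q
  have j : Bl c0 B2.jj := by rw [Bl]; decide +kernel
  have a : tau c0 = c0 := (j.ta.eq j).2 (by decide +kernel)
  have b : y0 * (tau y0)⁻¹ = c0 * c0 := by rw [tau_inv]; decide +kernel
  have d : c0 * c0 = z0 := by decide +kernel
  refine ⟨g * c0 * g⁻¹, g * y0 * g⁻¹, by simp [mul_assoc, a], by simp [conj_mul, d, z1], by simp [conj_mul, d, z2], ?_⟩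
  rw [conj_mul, ← b]; simp [mul_assoc]

end CF.Lt.R
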