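import Cfsg.Agent.Lt.Sa2
import Cfsg.Agent.Lt.Sb0
import Cfsg.Agent.Lt.B
import Cfsg.Agent.S0245
import Cfsg.Agent.S0246
import Cfsg.Agent.S0270

/-! Standard subgroup L₃(3), the case `Sp₆(3)`: facts on the model. -/

set_option autoImplicit false
set_option maxRecDepth 100000

namespace CF.Lt
open Subgroup CF.Lt.R CF.L33.Br Matrix CF.Gu CF.Comp
open scoped commutatorElement

theorem n6_cm (x : X6) : x * n6 = n6 * x := Subtype.ext (by simp [n6])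
theorem n6_sq : n6 * n6 = 1 := Subtype.ext (by simp [n6])
theorem n6_S : S.n6 = n6 := Subtype.ext S.n6_val

namespace Sa

theorem tr_pm {x y : X6} (n : y.1.trace ≠ 0) : x * y * x⁻¹ ≠ n6 * y := fun e => n (by
  have := S.tr_cj x y
  rw [e, show (n6 * y).1 = -y.1 by simp [n6], trace_neg] at this
  revert this
  generalize y.1.trace = a
  revert a; decide)

theorem cm_pm {x y : X6} (n : y.1.trace ≠ 0) (e : Pm n6 (x * y) (y * x)) : x * y = y * x :=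
  e.resolve_right fun e => tr_pm (x := x) n (by rw [e]; group)

noncomputable def ρ : TG YT →* X6 := cd.symm.toMonoidHom.comp rK
theorem cd_ρ (a : TG YT) : cd (ρ a) = rK a := cd.apply_symm_apply _
theorem ρ_eq {a : TG YT} {x : X6} (e : rK a = cd x) : ρ a = x := cd.injective ((cd_ρ a).trans e)
theorem ρ1 : ρ (eT 1) = n6 := ρ_eq rK_e.1
theorem ρ2 : ρ (eT 2) = w6 0 * w6 0 := ρ_eq rK_e.2.1
theorem ρ8 : ρ (eT 8) = w6 0 := ρ_eq rK_e.2.2.2.1
theorem ρ64 : ρ (eT 64) = a6 0 := ρ_eq rK_e.2.2.2.2.1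
theorem ρ56 : ρ (eT 56) = J6 := ρ_eq rK_e.2.2.2.2.2.2

theorem ρ_inj : Function.Injective ρ := (injective_iff_map_eq_one _).2 fun a e => by
  have k : ∀ a, a * a = 1 → ρ a = 1 → a = 1 := fun a q e => by
    obtain ⟨p, m, c⟩ := f1 a (.inl q)
    have : rK (eT p.1) = 1 := by rw [← cd_ρ, ← c, ρ.map_mul, ρ.map_mul, e, ρ.map_inv]; simp
    rw [(by decide +kernel : ∀ p ∈ l1, rK (eT p.1) = 1 → eT p.1 = 1) p m this] at c
    exact conj_eq_one_iff.1 c
  obtain ⟨n, q⟩ := TG.pgroup (X := YT) a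
  induction n with
  | zero => simpa using q
  | succ n ih => exact ih (k _ (by rw [← pow_add, ← two_mul, ← pow_succ', q]) (by rw [map_pow, e, one_pow]))

theorem pmρ {a b : TG YT} (e : Pm n6 (ρ a) (ρ b)) : Pm (eT 1) a b :=
  e.imp (fun q => ρ_inj q) fun q => ρ_inj (by rw [q, map_mul, ρ1])
theorem pmK {x y : X6} (e : Pm (cd n6) (cd x) (cd y)) : Pm n6 x y :=
  e.imp (fun q => cd.injective q) fun q => cd.injective (by rw [q, map_mul])

theorem card_X6 : Nat.card X6 = 9170703360 :=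
  (Cfsg.Agent.S0245.result (F := ZMod 3) (q := 3) (by simp) 3).trans (by decide)

theorem odT : Odd ρ.range.index := by
  have := ρ.range.card_mul_index
  rw [← Nat.card_congr (MonoidHom.ofInjective ρ_inj).toEquiv, TG.card, card_X6] at this
  rw [Nat.eq_of_mul_eq_mul_left (n := 1024) (k := 8955765) (by decide) this]
  decide

theorem θρ : ∀ p ∈ lθ, th6 (ρ (eT p.1)) = ρ (eT p.2) := fun p m => (ρ_eq (θK p m).symm).symm

theorem topT {M : Subgroup (TG YT)} (k : ∀ a ∈ (lθ.map fun p => (eT p.1, eT p.2)).map Prod.fst, a ∈ M) : M = ⊤ :=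
  TG.top (by decide +kernel) k

theorem thT : ∀ x ∈ ρ.range, th6 x ∈ ρ.range := by
  rintro _ ⟨a, rfl⟩
  refine (topT (M := ρ.range.comap (th6.toMonoidHom.comp ρ)) fun a m => ?_).ge (mem_top a)
  simp only [List.map_map, List.mem_map] at m
  obtain ⟨p, m, rfl⟩ := m
  exact ⟨_, (θρ p m).symm⟩

theorem etT : ∀ x ∈ ρ.range, et6 x ∈ ρ.range := fun x m =>
  have j : J6 ∈ ρ.range := ⟨_, ρ56⟩
  (show et6 x = J6 * x * J6⁻¹ from MulAut.conj_apply _ _) ▸ mul_mem (mul_mem j m) (inv_mem j)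

theorem sylX {x : X6} (p : T2 x) : ∃ y a, y * x * y⁻¹ = ρ a := by
  obtain ⟨y, -, a, e⟩ := cj_odd (T := ρ.range) (N := ⊤) (by simpa using odT) p trivial
  exact ⟨y, a, e.symm⟩

theorem pm_cj {x y : X6} (g : X6) (e : Pm n6 x y) : Pm n6 (g * x * g⁻¹) (g * y * g⁻¹) :=
  e.imp (fun q => by rw [q]) fun q => by rw [q, ← mul_assoc g, n6_cm]; group

theorem cjρ {g a b : TG YT} (e : g * a * g⁻¹ = b) (y : K6) :
    cd (cd.symm y * ρ g * ρ a * (cd.symm y * ρ g)⁻¹) = y * rK b * y⁻¹ := by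
  simp only [← e, map_mul, map_inv, _root_.mul_inv_rev, cd_ρ, MulEquiv.apply_symm_apply, mul_assoc]

/-- involutions modulo `-1` -/
theorem cls1 {x : X6} (q : Pm n6 (x * x) 1) : ∃ y, ∃ v ∈ [1, w6 0 * w6 0, J6], Pm n6 (y * x * y⁻¹) v := by
  obtain ⟨y, a, e⟩ := sylX (x := x) ⟨2, by
    rw [show x ^ 2 ^ 2 = x * x * (x * x) by rw [show 2 ^ 2 = 2 + 2 from rfl, pow_add, pow_two]]
    rcases q with q | q <;> rw [q] <;> simp [n6_sq]⟩
  obtain ⟨p, m, c⟩ := f1 a (pmρ (by simpa only [map_mul, ← e, conj_mul, map_one, mul_one, mul_inv_cancel] using pm_cj y q))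
  obtain ⟨v, n, k⟩ := g1 p m
  rw [← cjρ c, ← e] at k
  exact ⟨cd.symm p.2 * ρ (eT (Cd.lk tb1 a.v)) * y, v, n, by simpa only [_root_.mul_inv_rev, mul_assoc] using pmK k⟩

theorem cls3 {a : TG YT} (q : Pm (eT 1) (a * a) (eT 2)) :
    ∃ y, Pm n6 (th6 (y * ρ a * y⁻¹)) (y * ρ a * y⁻¹) ∨ Pm n6 (th6 (y * ρ a * y⁻¹)) (y * ρ a * y⁻¹)⁻¹ := by
  obtain ⟨p, m, c⟩ := f3 a q
  have k := g3 p m
  rw [← cjρ c, MulEquiv.symm_apply_apply, ← map_inv] at k
  exact ⟨_, k.imp pmK pmK⟩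

theorem cls4 {a : TG YT} (u : Pm (eT 1) (a * eT 8) (eT 8 * a)) (v : Pm (eT 1) (a * eT 64) (eT 64 * a))
    (q : Pm (eT 1) (a * a) 1 ∨ Pm (eT 1) (a * a) (eT 2)) : (Pm (eT 1) a 1 ∨ Pm (eT 1) a (eT 2)) ∨
    ∃ y, (y * w6 0 = w6 0 * y ∧ y * a6 0 = a6 0 * y) ∧ ∃ v ∈ [w6 1 * w6 1, b6], Pm n6 (y * ρ a * y⁻¹) v :=
  (f4 a u v q).imp_right fun ⟨⟨c1, c2⟩, p, m, c⟩ => by
    obtain ⟨⟨d1, d2⟩, v, n, k⟩ := g4 p m
    rw [← cjρ c] at k
    have s : ∀ {i : TG YT} {x : X6}, ρ i = x → eT (Cd.lk tb4 a.v) * i = i * eT (Cd.lk tb4 a.v) → p.2 * cd x = cd x * p.2 →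
        cd.symm p.2 * ρ (eT (Cd.lk tb4 a.v)) * x = x * (cd.symm p.2 * ρ (eT (Cd.lk tb4 a.v))) := fun {i x} e c d =>
      (Commute.mul_left (cd.injective (by simpa using d)) (show Commute _ _ by rw [← e, Commute, SemiconjBy, ← map_mul, c, map_mul])).eq
    exact ⟨_, ⟨s ρ8 c1 d1, s ρ64 c2 d2⟩, v, n, pmK k⟩

theorem cen_eq : center X6 = zpowers n6 := by
  have c := Cfsg.Agent.S0246.result (F := ZMod 3) (q := 3) (by simp) 3 (by decide)
  refine (eq_of_le_of_card_ge (zpowers_le.2 (mem_center_iff.2 n6_cm)) ?_).symm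
  rw [c, Nat.card_zpowers, orderOf_eq_prime (p := 2) (by rw [pow_two, n6_sq]) (by decide +kernel)]
  decide

theorem mem_cen {x : X6} : x ∈ center X6 ↔ x = 1 ∨ x = n6 := by
  rw [cen_eq]
  exact ⟨fun m => by
    rcases (mem_zpowers_iff_mem_range_orderOf.1 m) |> Finset.mem_image.1 with ⟨k, l, rfl⟩
    rw [orderOf_eq_prime (p := 2) (by rw [pow_two, n6_sq]) (by decide +kernel), Finset.mem_range] at l
    interval_cases k <;> simp, by rintro (rfl | rfl); exacts [one_mem _, mem_zpowers _]⟩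

theorem ker_le {K : Subgroup X6} [K.Normal] (n : K ≠ ⊤) : K ≤ center X6 := by
  have := Cfsg.Agent.S0270.result (F := ZMod 3) 3 (by decide) (by decide)
  rcases (inferInstance : (K.map (QuotientGroup.mk' (center X6))).Normal).eq_bot_or_eq_top with e | e
  · simpa only [Subgroup.map_eq_bot_iff, QuotientGroup.ker_mk'] using e
  · refine (n (top_le_iff.1 ?_)).elim
    have k : ∀ g, ∃ a ∈ K, ∃ z ∈ center X6, g = a * z := fun g => by
      obtain ⟨a, m, q⟩ := e.ge (mem_top (QuotientGroup.mk' _ g))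
      exact ⟨a, m, a⁻¹ * g, QuotientGroup.eq.1 q, by group⟩
    rw [← CF.Geom.commutator_symplecticGroup_eq_top (F := ZMod 3) 3 (.inl (by decide)), _root_.commutator_def, commutator_le]
    intro g _ h _
    obtain ⟨a, m, z, p, rfl⟩ := k g
    rw [show ⁅a * z, h⁆ = a * (h * a⁻¹ * h⁻¹) by
      rw [commutatorElement_def, mul_assoc a z h, ← mem_center_iff.1 p h]; group]
    exact mul_mem m (‹K.Normal›.conj_mem _ (inv_mem m) h)

theorem ent {x y : X6} (e : x * y = y * x) (i j : I6) : ∑ k, x.1 i k * y.1 k j = ∑ k, y.1 i k * x.1 k j :=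
  congrFun (congrFun (congrArg Subtype.val e) i) j

theorem w0_val : (w6 0).1 = fromBlocks !![0, 0, 0; 0, 1, 0; 0, 0, 1] !![-1, 0, 0; 0, 0, 0; 0, 0, 0] !![1, 0, 0; 0, 0, 0; 0, 0, 0]
    !![0, 0, 0; 0, 1, 0; 0, 0, 1] := by decide +kernel
theorem a0_val : (a6 0).1 = fromBlocks !![1, 0, 0; 0, 1, 0; 0, 0, 1] !![1, 0, 0; 0, 0, 0; 0, 0, 0] !![1, 0, 0; 0, 0, 0; 0, 0, 0]
    !![-1, 0, 0; 0, 1, 0; 0, 0, 1] := by decide +kernel
theorem b6_val : b6.1 = fromBlocks !![1, 0, 0; 0, 0, 0; 0, 0, 0] !![0, 0, 0; 0, -1, 0; 0, 0, -1] !![0, 0, 0; 0, 1, 0; 0, 0, 1]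
    !![1, 0, 0; 0, 0, 0; 0, 0, 0] := by decide +kernel

theorem blk0 {x : X6} (a : x * w6 0 = w6 0 * x) (b : x * a6 0 = a6 0 * x) :
    x.1 (.inr 0) (.inr 0) = x.1 (.inl 0) (.inl 0) ∧ x.1 (.inl 0) (.inr 0) = 0 ∧ x.1 (.inr 0) (.inl 0) = 0 ∧
    ∀ i j, ¬ (S.pl i = 0 ↔ S.pl j = 0) → x.1 i j = 0 := by
  have a1 := ent a (.inl 0) (.inl 0)
  have a2 := ent a (.inl 0) (.inr 0)
  have b1 := ent b (.inl 0) (.inl 0)
  simp [w0_val, a0_val, Fintype.sum_sum_type, Fin.sum_univ_three] at a1 a2 b1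
  refine ⟨a2.symm, ?_, ?_, fun i j => S.off (k := 0) (by
    rw [← S.w22, map_mul, ← S.w6_eq]; exact (Commute.mul_right a a).eq)⟩ <;> revert a1 b1 <;>
  · generalize x.1 (.inl 0) (.inr 0) = p
    generalize x.1 (.inr 0) (.inl 0) = q
    revert p q; decide

/-- the involutions of `C(Q 0) ∩ C(b6)` -/
theorem refl0 {x : X6} (a : x * w6 0 = w6 0 * x) (b : x * a6 0 = a6 0 * x) (c : x * b6 = b6 * x)
    (l : x.1 (.inl 0) (.inl 0) = 1) (q : x * x = 1) : x ∈ 1 :: n6 * (w6 0 * w6 0) :: rf6 := by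
  obtain ⟨p1, p2, p3, p4⟩ := blk0 a b
  have e : x.1 = mx (x.1 (.inl 1) (.inl 1)) (x.1 (.inr 1) (.inl 1)) (x.1 (.inl 1) (.inl 2)) (x.1 (.inr 1) (.inl 2))
      (x.1 (.inl 2) (.inl 1)) (x.1 (.inr 2) (.inl 1)) (x.1 (.inl 2) (.inl 2)) (x.1 (.inr 2) (.inl 2)) := by
    have c1 := fun i j : Fin 3 => ent c (.inl i) (.inl j)
    have c2 := fun i j : Fin 3 => ent c (.inr i) (.inl j)
    have d1 := c1 1 1
    have d2 := c1 1 2
    have d3 := c1 2 1
    have d4 := c1 2 2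
    have d5 := c2 1 1
    have d6 := c2 1 2
    have d7 := c2 2 1
    have d8 := c2 2 2
    simp [b6_val, Fintype.sum_sum_type, Fin.sum_univ_three] at d1 d2 d3 d4 d5 d6 d7 d8
    ext i j
    rcases i with i | i <;> rcases j with j | j <;> fin_cases i <;> fin_cases j <;>
      first | exact p4 _ _ (by decide) | assumption | rfl | exact p1.trans l
  have k : force (enc x.1) okr = true := by rw [e]; exact f6 ..
  rw [force_eq, okr, decide_eq_true_iff, mulc_enc, cJ_eq.1, trc_enc, mulc_enc, mulc_enc, SymplecticGroup.mem_iff.1 x.2,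
    show x.1 * x.1 = 1 from congrArg Subtype.val q, lr_eq.1, List.mem_map] at k
  obtain ⟨r, m, k⟩ := k lr_eq.2 rfl
  exact cd.injective (K6.ext k) ▸ m

theorem refl1 {x : X6} (a : x * w6 0 = w6 0 * x) (b : x * a6 0 = a6 0 * x) (c : x * b6 = b6 * x)
    (q : Pm n6 (x * x) 1) : ∃ r ∈ 1 :: n6 * (w6 0 * w6 0) :: rf6, Pm n6 x r := by
  obtain ⟨p1, p2, p3, p4⟩ := blk0 a b
  have s : (x * x).1 (.inl 0) (.inl 0) = x.1 (.inl 0) (.inl 0) * x.1 (.inl 0) (.inl 0) := by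
    change ∑ k, x.1 _ k * x.1 k _ = _
    simp [Fintype.sum_sum_type, Fin.sum_univ_three, p2, p4 (.inl 0) (.inl 1) (by decide), p4 (.inl 0) (.inl 2) (by decide),
      p4 (.inl 0) (.inr 1) (by decide), p4 (.inl 0) (.inr 2) (by decide)]
  have sq : ∀ l : ZMod 3, l * l ≠ -1 ∧ (1 = l * l → l = 1 ∨ -l = 1) := by decide
  rcases q with q | q <;> rw [q] at s
  · rcases (sq _).2 s with l | l
    · exact ⟨x, refl0 a b c l q, .inl rfl⟩
    · have k : ∀ {y}, x * y = y * x → n6 * x * y = y * (n6 * x) := fun e => (Commute.mul_left (n6_cm _).symm e).eq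
      exact ⟨n6 * x, refl0 (k a) (k b) (k c) (by simpa [n6] using l) (by
        rw [← mul_assoc, mul_assoc n6, n6_cm, ← mul_assoc, n6_sq, one_mul, q]), .inr (by
        rw [← mul_assoc, n6_sq, one_mul])⟩
  · exact ((sq _).1 (s.symm.trans (by decide +kernel))).elim

end Sa

theorem nz6 (x : X6) : x * (w6 0 * w6 0) * x⁻¹ ≠ n6 * (w6 0 * w6 0) := Sa.tr_pm (by decide +kernel)

end CF.Lt
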